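import Groth.Agent.BGa10.Side
import Mathlib.RingTheory.Localization.FractionRing

/-!
# The torsor with cocycle `1/π` does not extend over the node
-/

set_option autoImplicit false
set_option linter.style.haveILetI false
set_option backward.isDefEq.respectTransparency false
set_option backward.isDefEq.respectTransparency.types false

universe u

open CategoryTheory CategoryTheory.Functor MonoidalCategory CartesianMonoidalCategory MonObj AlgebraicGeometry Opposite
open scoped TensorProduct

namespace Groth.Agent.BGa10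

open Groth.Agent.QuotLib Groth.Agent.AlgStkX Groth.Agent.GrpSchLib Groth.Agent.Theta10 Groth.Agent.FibBase

local notation "K₀" => Scheme.fppfPrecoverage

variable {R : Type u} [CommRing R] (π : R)

local notation "σA" => ThetaS.stAction R π

/-- The object over the spectrum of an algebra given by a point in a branch. -/
noncomputable def ofPt (σ : Bool) {A : Type u} [CommRing A] [Algebra R A] (p : ThetaS.STRing R π →ₐ[R] A)
    (hp : IsUnit (p (sd π σ))) : Sided π :=
  ⟨triv K₀ (ThetaS.Gm R) σA (CoactBr.pt p), σ, by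
    refine Q_triv (sideU_invariant π σ) (Q := OnSide π σ) (fun _ => Iff.rfl) _ ?_
    rw [CoactBr.pt_left]
    exact (preimage_basicOpen_spec (CommRingCat.ofHom p.toRingHom) (sd π σ)).trans
      (Scheme.basicOpen_of_isUnit _ (hp.map _))⟩

variable [IsDomain R]

local notation "LK" => MonoidAlgebra (FractionRing R) (Multiplicative ℤ)

/-- The constant coefficient of the restriction from a branch, in the other coordinate. -/
noncomputable def flip (hπ : algebraMap R (FractionRing R) π ≠ 0) : ThetaS.Lau R →ₐ[R] LK :=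
  MonoidAlgebra.lift R LK (Multiplicative ℤ)
    { toFun := fun g => MonoidAlgebra.single (Multiplicative.ofAdd (-g.toAdd)) ((algebraMap R (FractionRing R) π) ^ g.toAdd)
      map_one' := by simp [MonoidAlgebra.one_def]
      map_mul' := fun g g' => by
        rw [MonoidAlgebra.single_mul_single, ← zpow_add₀ hπ, ← ofAdd_add, toAdd_mul, neg_add] }

/-- The restriction from a branch, in its coordinate. -/
noncomputable def incl : ThetaS.Lau R →ₐ[R] LK :=
  MonoidAlgebra.lift R LK (Multiplicative ℤ)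
    { toFun := fun g => MonoidAlgebra.single g 1
      map_one' := rfl
      map_mul' := fun g g' => by rw [MonoidAlgebra.single_mul_single, _root_.one_mul] }

omit [IsDomain R] in
theorem coeff_one_algebraMap (r : R) (p : LK) :
    (algebraMap R LK r * p).coeff 1 = algebraMap R (FractionRing R) r * p.coeff 1 := by
  rw [← Algebra.smul_def, MonoidAlgebra.coeff_smul, Finsupp.smul_apply, Algebra.smul_def]

theorem coeff_flip (hπ : algebraMap R (FractionRing R) π ≠ 0) (q : ThetaS.Lau R) :
    (flip π hπ q).coeff 1 = algebraMap R (FractionRing R) (q.coeff 1) := by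
  induction q using MonoidAlgebra.induction_linear with
  | zero => simp
  | add p q hp hq => simp [hp, hq]
  | single g r =>
    rw [flip, MonoidAlgebra.lift_single]
    show (r • MonoidAlgebra.single (Multiplicative.ofAdd (-g.toAdd)) _ : LK).coeff 1 = _
    rw [MonoidAlgebra.coeff_smul, Finsupp.smul_apply, MonoidAlgebra.coeff_single, MonoidAlgebra.coeff_single]
    by_cases hg : g = 1
    · subst hg; simp [Algebra.smul_def]
    · rw [Finsupp.single_eq_of_ne, Finsupp.single_eq_of_ne, smul_zero, map_zero]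
      · exact fun h => hg h.symm
      · intro h
        apply hg
        simpa using h.symm

omit [IsDomain R] in
theorem coeff_incl (q : ThetaS.Lau R) :
    (incl (R := R) q).coeff 1 = algebraMap R (FractionRing R) (q.coeff 1) := by
  induction q using MonoidAlgebra.induction_linear with
  | zero => simp
  | add p q hp hq => simp [hp, hq]
  | single g r =>
    rw [incl, MonoidAlgebra.lift_single]
    show (r • MonoidAlgebra.single g (1 : FractionRing R) : LK).coeff 1 = _
    rw [MonoidAlgebra.coeff_smul, Finsupp.smul_apply, MonoidAlgebra.coeff_single, MonoidAlgebra.coeff_single]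
    by_cases hg : g = 1
    · subst hg; simp [Algebra.smul_def]
    · rw [Finsupp.single_eq_of_ne (Ne.symm hg), Finsupp.single_eq_of_ne (Ne.symm hg), smul_zero, map_zero]

variable {S : Scheme.{u}} (h : Spec (CommRingCat.of R) ⟶ S)

theorem basedFunctor_ext {C : Type*} [Category C] {𝒳 𝒴 : BasedCategory C} {F G : 𝒳 ⥤ᵇ 𝒴}
    (e : F.toFunctor = G.toFunctor) : F = G := by
  cases F; cases G; cases e; rfl

/-- The square given by the torsor. -/
noncomputable def square : LiftSq.Sq (ThetaS.stIncl K₀ R π h) (FibCat.toSelf (AlgSt.BG K₀ (Red.Ga S))) where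
  top := puncFun π h
  bot := FibCat.toSelf (ThetaS.ST K₀ R π h)
  iso := eqToIso (basedFunctor_ext (puncFun π h).w.symm)

set_option maxHeartbeats 1600000 in
theorem not_hasLift (hπ : π ≠ 0) (hunit : ¬ IsUnit π) : IsEmpty (square π h).Lift := by
  refine ⟨fun L => hunit ?_⟩
  have hK : algebraMap R (FractionRing R) π ≠ 0 := fun e => hπ
    ((IsFractionRing.injective R (FractionRing R)) (e.trans (map_zero _).symm))
  let Φ : preFun π h ≅ BasedFunctor.comp (sideIncl π h)
      (BasedFunctor.comp (ThetaS.stIncl K₀ R π h) L.fn) :=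
    puncFunIso π h ≪≫ whiskerLeftIso (sideIncl π h) L.isoTop.symm
  let A := L.fn.obj (uObj σA)
  haveI : IsAffine A.base.left := by
    rw [show A.base = _ from L.fn.w_obj (uObj σA)]
    exact inferInstanceAs (IsAffine (Spec (CommRingCat.of (ThetaS.STRing R π))))
  obtain ⟨b, hb⟩ := exists_section A
  let ψ := trivHom A b (toUnit A.base) (toUnit_unique _ _)
  haveI : IsIso ψ := by
    have := (AlgStkX.isStack_quotSt (AlgSt.trivAction (Red.Ga S))).1.isStronglyCartesian ψ
    haveI : IsIso ((AlgSt.BG K₀ (Red.Ga S)).p.map ψ) := by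
      show IsIso (ψ.base)
      rw [show ψ.base = b ≫ A.π from rfl, hb]
      exact ⟨𝟙 _, Category.id_comp _, Category.id_comp _⟩
    exact IsStronglyCartesian.isIso_of_base_isIso (AlgSt.BG K₀ (Red.Ga S)).p ((AlgSt.BG K₀ (Red.Ga S)).p.map ψ) ψ
  let M : ∀ {a : Sided π} (j : a.1 ⟶ uObj σA),
      triv K₀ (Red.Ga S) (AlgSt.trivAction (Red.Ga S)) (toUnit ((sideSt π h).p.obj a)) ⟶
        triv K₀ (Red.Ga S) (AlgSt.trivAction (Red.Ga S)) (toUnit A.base) :=
    fun {a} j => Φ.hom.toNatTrans.app a ≫ L.fn.map j ≫ CategoryTheory.inv ψ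
  let f : ∀ {a : Sided π}, (a.1 ⟶ uObj σA) → Γ(a.1.base.left, ⊤) := fun {a} j => Red.gaFn (X := (sideSt π h).p.obj a) (gOf (G := Red.Ga S) (M j))
  have hf : ∀ {a c : Sided π} (k : a.1 ⟶ c.1) (j : c.1 ⟶ uObj σA),
      f (k ≫ j) = cocy π a c + k.base.left.appTop (f j) := by
    intro a c k j
    let k' : @Quiver.Hom (sideSt π h).obj _ a c := InducedCategory.homMk (ObjectProperty.homMk k)
    have e : M (k ≫ j) = (preFun π h).map k' ≫ M j := by
      show Φ.hom.toNatTrans.app a ≫ L.fn.map (k ≫ j) ≫ _ =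
        (preFun π h).map k' ≫ Φ.hom.toNatTrans.app c ≫ L.fn.map j ≫ _
      rw [L.fn.toFunctor.map_comp, ← Category.assoc ((preFun π h).map k'), Φ.hom.toNatTrans.naturality,
        Category.assoc, Category.assoc]
      rfl
    show Red.gaFn (gOf (M (k ≫ j))) = _
    rw [e]
    refine (congrArg Red.gaFn (gOf_comp _ _)).trans ?_
    refine (GaPts.gaFn_mul _ _).trans ?_
    refine congrArg₂ (· + ·) ?_ ?_
    · refine (congrArg Red.gaFn (gOf_mor _ _ _ _ (toUnit_unique _ _))).trans ?_
      exact GaPts.gaFn_ptOfFn _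
    · refine (GaPts.gaFn_comp _ _).trans ?_
      exact congrArg (fun q : (sideSt π h).p.obj a ⟶ (sideSt π h).p.obj c => q.left.appTop (f j)) (mor_base _ _ _ _ (toUnit_unique _ _))
  let z : ℤ → ThetaS.Lau R := ThetaS.zPow R
  have hz : ∀ n, IsUnit (z n) := fun n => ⟨⟨z n, z (-n), by rw [ThetaS.zPow_mul, add_neg_cancel, ThetaS.zPow_zero],
    by rw [ThetaS.zPow_mul, neg_add_cancel, ThetaS.zPow_zero]⟩, rfl⟩
  let ps : ThetaS.STRing R π →ₐ[R] ThetaS.Lau R := ThetaS.stPt (z 1) (π • z (-1)) (by
    rw [mul_smul_comm, ThetaS.zPow_mul, add_neg_cancel, ThetaS.zPow_zero, Algebra.algebraMap_eq_smul_one])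
  let pt : ThetaS.STRing R π →ₐ[R] ThetaS.Lau R := ThetaS.stPt (π • z (-1)) (z 1) (by
    rw [smul_mul_assoc, ThetaS.zPow_mul, neg_add_cancel, ThetaS.zPow_zero, Algebra.algebraMap_eq_smul_one])
  let p := incl.comp ps
  have hp : (flip π hK).comp pt = p := by
    refine @ThetaS.stRing_algHom_ext R _ π LK _ _ _ _ ?_ ?_
    · show flip π hK (pt (ThetaS.sFn R π)) = incl (ps (ThetaS.sFn R π))
      rw [ThetaS.stPt_sFn, ThetaS.stPt_sFn, _root_.map_smul]
      simp only [z, flip, incl, MonoidAlgebra.lift_single]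
      simp [Algebra.smul_def, hK]
    · show flip π hK (pt (ThetaS.tFn R π)) = incl (ps (ThetaS.tFn R π))
      rw [ThetaS.stPt_tFn, ThetaS.stPt_tFn, _root_.map_smul]
      simp only [z, flip, incl, MonoidAlgebra.lift_single]
      simp [Algebra.smul_def]
  let aS := ofPt π true ps (by rw [sd, if_pos rfl, ThetaS.stPt_sFn]; exact hz 1)
  let aT := ofPt π false pt (by rw [sd, if_neg (by simp), ThetaS.stPt_tFn]; exact hz 1)
  let a₁ := ofPt π true p (by
    show IsUnit (incl (ps (sd π true))); rw [sd, if_pos rfl, ThetaS.stPt_sFn]; exact (hz 1).map incl)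
  let a₂ := ofPt π false p (by
    rw [← hp]
    show IsUnit (flip π hK (pt (sd π false)))
    rw [sd, if_neg (by simp), ThetaS.stPt_tFn]; exact (hz 1).map (flip π hK))
  let jS : aS.1 ⟶ uObj σA := mor _ (𝟙 _) 1 (CoactBr.pt ps) (mor_one_cond _)
  let jT : aT.1 ⟶ uObj σA := mor _ (𝟙 _) 1 (CoactBr.pt pt) (mor_one_cond _)
  let kS : a₁.1 ⟶ aS.1 := mor _ _ 1 (CoactBr.pt incl) (by rw [act_one, ← CoactBr.pt_comp])
  let kT : a₂.1 ⟶ aT.1 := mor _ _ 1 (CoactBr.pt (flip π hK)) (by rw [act_one, ← CoactBr.pt_comp, hp])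
  let j₁ : a₁.1 ⟶ uObj σA := mor _ (𝟙 _) 1 (CoactBr.pt p) (mor_one_cond _)
  have hS : kS ≫ jS = j₁ := by
    refine mor_ext ?_ ?_
    · show bOf kS ≫ bOf jS = bOf j₁
      rw [mor_base, mor_base, mor_base, ← CoactBr.pt_comp]
    · rw [gOf_comp, gOf_mor, gOf_mor, gOf_mor, MonObj.comp_one, _root_.one_mul]
  have hT : kT ≫ jT = j₁ := by
    refine mor_ext ?_ ?_
    · show bOf kT ≫ bOf jT = bOf j₁
      rw [mor_base, mor_base, mor_base, ← CoactBr.pt_comp, hp]
    · rw [gOf_comp, gOf_mor, gOf_mor, gOf_mor, MonObj.comp_one, _root_.one_mul]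
  have e1 := hf (a := a₁) (c := aS) kS jS
  have e2 := hf (a := a₂) (c := aT) kT jT
  have e3 := hf (a := a₁) (c := a₂) (𝟙 _) j₁
  rw [hS] at e1
  rw [hT] at e2
  have e4 : (𝟙 a₁.1 : a₁.1 ⟶ a₁.1) ≫ j₁ = j₁ := Category.id_comp _
  -- transfer to rings
  let ev : Γ(Spec (CommRingCat.of LK), ⊤) ⟶ CommRingCat.of LK := (Scheme.ΓSpecIso (CommRingCat.of LK)).hom
  let qS : ThetaS.Lau R := (Scheme.ΓSpecIso (CommRingCat.of (ThetaS.Lau R))).hom (f jS)
  let qT : ThetaS.Lau R := (Scheme.ΓSpecIso (CommRingCat.of (ThetaS.Lau R))).hom (f jT)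
  have evk : ∀ (φ : ThetaS.Lau R →ₐ[R] LK) (r : Γ(Spec (CommRingCat.of (ThetaS.Lau R)), ⊤)),
      ev ((CoactBr.pt φ).left.appTop r) = φ ((Scheme.ΓSpecIso (CommRingCat.of (ThetaS.Lau R))).hom r) := fun φ r =>
    congrArg (fun k => k r) (Scheme.ΓSpecIso_naturality (CommRingCat.ofHom φ.toRingHom))
  have h1 : ev (f j₁) = incl qS := by
    rw [e1, cocy]
    show ev ((nS true - nS true) • invPi π a₁.1 + kS.base.left.appTop (f jS)) = _
    rw [sub_self, zero_smul, zero_add]
    exact (congrArg (fun q : a₁.1.base ⟶ aS.1.base => ev (q.left.appTop (f jS))) (mor_base _ _ _ _ (by rw [act_one, ← CoactBr.pt_comp]))).trans (evk incl _)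
  have h2 : ev (f (a := a₂) j₁) = flip π hK qT := by
    rw [e2, cocy]
    show ev ((nS false - nS false) • invPi π a₂.1 + kT.base.left.appTop (f jT)) = _
    rw [sub_self, zero_smul, zero_add]
    exact (congrArg (fun q : a₂.1.base ⟶ aT.1.base => ev (q.left.appTop (f jT))) (mor_base _ _ _ _ (by rw [act_one, ← CoactBr.pt_comp, hp]))).trans (evk (flip π hK) _)
  have h3 : ev (f j₁) = ev (invPi π a₁.1) + ev (f (a := a₂) j₁) := by
    refine (congrArg ev ((congrArg (f (a := a₁)) e4.symm).trans e3)).trans ?_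
    refine (_root_.map_add ev.hom _ _).trans ?_
    refine congrArg₂ (· + ·) (congrArg ev ?_) ?_
    · show ((1 : ℤ) - 0) • invPi π a₁.1 = _
      rw [sub_zero, one_smul]
    · rw [AlgSt.QuotObj.id_base]; rfl
  have hinv : algebraMap R LK π * ev (invPi π a₁.1) = 1 := by
    have hu := isUnit_of_onSide π (σ := true) (σ' := false) (by simp) (A := a₁.1) a₁.2.2 a₂.2.2
    have hπ' : ev (a₁.1.base.hom.appTop ((Scheme.ΓSpecIso (CommRingCat.of R)).inv π)) = algebraMap R LK π := by
      have := congrArg (fun k => k ((Scheme.ΓSpecIso (CommRingCat.of R)).inv π))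
        (Scheme.ΓSpecIso_naturality (CommRingCat.ofHom (algebraMap R LK)))
      refine this.trans ?_
      exact congrArg (algebraMap R LK) (Iso.inv_hom_id_apply (Scheme.ΓSpecIso (CommRingCat.of R)) π)
    rw [← hπ', ← map_mul, invPi, Ring.mul_inverse_cancel _ hu, map_one]
  rw [h1, h2] at h3
  have h5 := congrArg (fun p : LK => p.coeff 1) (congrArg (algebraMap R LK π * ·) h3)
  simp only [mul_add, hinv, MonoidAlgebra.coeff_add, Finsupp.add_apply, coeff_one_algebraMap, coeff_incl,
    coeff_flip, MonoidAlgebra.one_def, MonoidAlgebra.coeff_single, Finsupp.single_eq_same] at h5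
  refine IsUnit.of_mul_eq_one (qS.coeff 1 - qT.coeff 1) (IsFractionRing.injective R (FractionRing R) ?_)
  rw [_root_.map_mul, _root_.map_sub, _root_.map_one (algebraMap R (FractionRing R)), mul_sub, h5]
  ring

end Groth.Agent.BGa10
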