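import Groth.Agent.AlgStkX.BGGerbe
import Groth.Agent.AlgSpDec.FppfDescent
import Groth.Agent.DescLib.Amitsur
import Groth.Agent.GrpSchLib.GaPts
import Groth.Agent.GrpSchLib.Action
import Groth.Agent.GrpSchLib.RankOneNonComm
import Groth.Agent.QuotLib.Descend

/-!
# Torsors under the additive group over an affine base have sections
-/

set_option autoImplicit false
set_option linter.style.haveILetI false
set_option backward.isDefEq.respectTransparency false
set_option backward.isDefEq.respectTransparency.types false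

universe u

open CategoryTheory CategoryTheory.Limits MonoidalCategory CartesianMonoidalCategory MonObj AlgebraicGeometry
open scoped TensorProduct

namespace Groth.Agent.BGa10

open Groth.Agent.GrpSchLib Groth.Agent.AlgStkX Groth.Agent.QuotLib

local notation "K₀" => Scheme.fppfPrecoverage

/-- A one-cocycle of the additive group for a faithfully flat algebra is a coboundary. -/
theorem exists_coboundary {R A : Type u} [CommRing R] [CommRing A] [Algebra R A] [Module.FaithfullyFlat R A]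
    (c : A ⊗[R] A)
    (hc : (Algebra.TensorProduct.includeRight : A ⊗[R] A →ₐ[R] A ⊗[R] (A ⊗[R] A)) c -
        Algebra.TensorProduct.map (AlgHom.id R A) (Algebra.TensorProduct.includeRight : A →ₐ[R] A ⊗[R] A) c +
        Algebra.TensorProduct.map (AlgHom.id R A) (Algebra.TensorProduct.includeLeft : A →ₐ[R] A ⊗[R] A) c = 0) :
    ∃ e : A, (1 : A) ⊗ₜ[R] e - e ⊗ₜ[R] 1 = c := by
  have nat : ∀ {N P : Type u} [AddCommGroup N] [Module R N] [AddCommGroup P] [Module R P] (f : N →ₗ[R] P) (x : N),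
      LinearMap.lTensor R f ((TensorProduct.lid R N).symm x) = (TensorProduct.lid R P).symm (f x) := fun f x => by
    rw [TensorProduct.lid_symm_apply, TensorProduct.lid_symm_apply, LinearMap.lTensor_tmul]
  obtain ⟨z, hz⟩ := (DescLib.amitsur_degree_one (R := R) (A := A) R ((TensorProduct.lid R _).symm c)).1 (by
    rw [LinearMap.add_apply, LinearMap.sub_apply, nat, nat, nat, ← map_sub, ← map_add]
    exact (congrArg _ hc).trans (map_zero _))
  refine ⟨TensorProduct.lid R A z, (TensorProduct.lid R (A ⊗[R] A)).symm.injective (Eq.trans ?_ hz)⟩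
  obtain ⟨a, rfl⟩ := (TensorProduct.lid R A).symm.surjective z
  rw [LinearEquiv.apply_symm_apply, LinearMap.sub_apply, nat, nat, map_sub]
  rfl

variable {S : Scheme.{u}}

theorem gaFn_ext {T : Over S} {x y : T ⟶ Red.Ga S} (h : Red.gaFn x = Red.gaFn y) : x = y := GaPts.gaFn_injective h

/-- The translate of a point. -/
noncomputable def tr (A : AlgSt.QuotObj K₀ (Red.Ga S) (AlgSt.trivAction (Red.Ga S))) {T : Over S}
    (g : T ⟶ Red.Ga S) (b : T ⟶ A.P) : T ⟶ A.P :=
  lift g b ≫ A.act.act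

variable (A : AlgSt.QuotObj K₀ (Red.Ga S) (AlgSt.trivAction (Red.Ga S))) {T T' : Over S}

theorem tr_π (g : T ⟶ Red.Ga S) (b : T ⟶ A.P) : tr A g b ≫ A.π = b ≫ A.π := by
  rw [tr, Category.assoc, A.cart.w, lift_snd_assoc]

theorem comp_tr (q : T' ⟶ T) (g : T ⟶ Red.Ga S) (b : T ⟶ A.P) : q ≫ tr A g b = tr A (q ≫ g) (q ≫ b) := by
  rw [tr, tr, ← Category.assoc, comp_lift]

theorem tr_tr (g g' : T ⟶ Red.Ga S) (b : T ⟶ A.P) : tr A g (tr A g' b) = tr A (g * g') b :=
  act_mul A.act g g' b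

theorem exists_diff {b b' : T ⟶ A.P} (h : b' ≫ A.π = b ≫ A.π) : ∃ g, tr A g b = b' :=
  ⟨A.cart.lift b' b h ≫ fst _ _, by
    rw [tr]
    refine Eq.trans ?_ (A.cart.lift_fst b' b h)
    congr 1
    ext1
    · rw [lift_fst]
    · rw [lift_snd]; exact (A.cart.lift_snd b' b h).symm⟩

theorem diff_unique {g g' : T ⟶ Red.Ga S} {b : T ⟶ A.P} (h : tr A g b = tr A g' b) : g = g' := by
  have := A.cart.hom_ext (k := lift g b) (l := lift g' b) h (by rw [lift_snd, lift_snd])
  simpa using congrArg (· ≫ fst _ _) this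

set_option maxHeartbeats 1600000 in
theorem exists_section [IsAffine A.base.left] : ∃ b : A.base ⟶ A.P, b ≫ A.π = 𝟙 _ := by
  obtain ⟨R₀, hR₀, hsec⟩ := exists_sieve_sections A
  obtain ⟨Z', q, haff, hflat, -, hsurj, hq⟩ :
      ∃ (Z' : Over S) (q : Z' ⟶ A.base), IsAffine Z'.left ∧ Flat q.left ∧ LocallyOfFinitePresentation q.left ∧
        Surjective q.left ∧ ∃ b : Z' ⟶ A.P, b ≫ A.π = q := by
    haveI := RankOne.smooth_ga S
    obtain ⟨⟨_, _⟩, _⟩ : AlgSpLib.fppf A.π.left := fppf_π A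
    obtain ⟨n, U, hU, hcov⟩ := AlgSpDec.Fppf.exists_affine_refinement A.π.left
    let Uc : Scheme.{u} := ∐ fun i : ULift.{u} (Fin n) => (U i.down).toScheme
    have : ∀ i : ULift.{u} (Fin n), IsAffine (U i.down).toScheme := fun i => hU i.down
    let j : Uc ⟶ A.P.left := Sigma.desc fun i => (U i.down).ι
    haveI : Flat j := IsZariskiLocalAtSource.sigmaDesc fun i => inferInstanceAs (Flat (U i.down).ι)
    haveI : LocallyOfFinitePresentation j :=
      IsZariskiLocalAtSource.sigmaDesc fun i => inferInstanceAs (LocallyOfFinitePresentation (U i.down).ι)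
    let j' : Over.mk (j ≫ A.P.hom) ⟶ A.P := Over.homMk j rfl
    refine ⟨Over.mk (j ≫ A.P.hom), j' ≫ A.π, inferInstanceAs (IsAffine Uc),
      inferInstanceAs (Flat (j ≫ A.π.left)), inferInstanceAs (LocallyOfFinitePresentation (j ≫ A.π.left)), ?_, j', rfl⟩
    refine ⟨fun y => ?_⟩
    obtain ⟨i, x, hx, hxy⟩ := hcov y
    refine ⟨(Sigma.ι (fun i : ULift.{u} (Fin n) => (U i.down).toScheme) ⟨i⟩) ⟨x, hx⟩, ?_⟩
    show (j ≫ A.π.left) ((Sigma.ι (fun i : ULift.{u} (Fin n) => (U i.down).toScheme) ⟨i⟩) ⟨x, hx⟩) = y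
    rw [← Scheme.Hom.comp_apply, Sigma.ι_desc_assoc]
    exact hxy
  obtain ⟨b, hb⟩ := hq
  haveI := haff; haveI := hflat; haveI := hsurj
  let R : Type u := Γ(A.base.left, ⊤)
  let B : Type u := Γ(Z'.left, ⊤)
  letI : Algebra R B := q.left.appTop.hom.toAlgebra
  have hql : q.left = Z'.left.isoSpec.hom ≫ Spec.map (CommRingCat.ofHom (algebraMap R B)) ≫ A.base.left.isoSpec.inv := by
    have := Scheme.isoSpec_hom_naturality q.left
    rw [← Iso.comp_inv_eq] at this
    exact (Eq.trans (Category.assoc _ _ _).symm this).symm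
  haveI : Module.FaithfullyFlat R B := RingHom.faithfullyFlat_algebraMap_iff.1
    ((Flat.flat_and_surjective_iff_faithfullyFlat_of_isAffine q.left).1 ⟨inferInstance, inferInstance⟩)
  -- objects over the base from algebras
  let sp : ∀ (C : Type u) [CommRing C] [Algebra R C], Over S := fun C _ _ =>
    Over.mk ((Spec.map (CommRingCat.ofHom (algebraMap R C)) ≫ A.base.left.isoSpec.inv) ≫ A.base.hom)
  let pt : ∀ {C : Type u} [CommRing C] [Algebra R C] (f : B →ₐ[R] C), sp C ⟶ Z' := fun {C} _ _ f =>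
    Over.homMk (Spec.map (CommRingCat.ofHom f.toRingHom) ≫ Z'.left.isoSpec.inv) (by
      show _ ≫ Z'.hom = _
      rw [← Over.w q, hql]
      show (Spec.map _ ≫ _) ≫ (_ ≫ _ ≫ _) ≫ _ = (Spec.map _ ≫ _) ≫ _
      simp only [Category.assoc, Iso.inv_hom_id_assoc, ← Spec.map_comp_assoc]
      congr 2
      ext1
      exact f.comp_algebraMap)
  have pt_q : ∀ {C : Type u} [CommRing C] [Algebra R C] (f f' : B →ₐ[R] C), pt f ≫ q = pt f' ≫ q := by
    intro C _ _ f f'
    apply Over.OverMorphism.ext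
    show (Spec.map _ ≫ _) ≫ q.left = (Spec.map _ ≫ _) ≫ q.left
    rw [hql]
    simp only [Category.assoc, Iso.inv_hom_id_assoc, ← Spec.map_comp_assoc]
    congr 2
    ext1
    exact f.comp_algebraMap.trans f'.comp_algebraMap.symm
  let mp : ∀ {C D : Type u} [CommRing C] [Algebra R C] [CommRing D] [Algebra R D] (f : C →ₐ[R] D), sp D ⟶ sp C :=
    fun {C D} _ _ _ _ f => Over.homMk (Spec.map (CommRingCat.ofHom f.toRingHom)) (by
      show Spec.map _ ≫ (Spec.map _ ≫ _) ≫ _ = (Spec.map _ ≫ _) ≫ _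
      simp only [Category.assoc, ← Spec.map_comp_assoc]
      congr 2
      ext1
      exact f.comp_algebraMap)
  have mp_pt : ∀ {C D : Type u} [CommRing C] [Algebra R C] [CommRing D] [Algebra R D] (f : C →ₐ[R] D) (g : B →ₐ[R] C),
      mp f ≫ pt g = pt (f.comp g) := by
    intro C D _ _ _ _ f g
    apply Over.OverMorphism.ext
    show Spec.map _ ≫ Spec.map _ ≫ _ = Spec.map _ ≫ _
    rw [← Spec.map_comp_assoc]
    rfl
  -- functions of points
  let fn : ∀ {C : Type u} [CommRing C] [Algebra R C] (x : sp C ⟶ Red.Ga S), C :=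
    fun {C} _ _ x => (Scheme.ΓSpecIso (CommRingCat.of C)).hom (Red.gaFn x)
  have fn_mp : ∀ {C D : Type u} [CommRing C] [Algebra R C] [CommRing D] [Algebra R D] (f : C →ₐ[R] D)
      (x : sp C ⟶ Red.Ga S), fn (mp f ≫ x) = f (fn x) := by
    intro C D _ _ _ _ f x
    show (Scheme.ΓSpecIso _).hom (Red.gaFn (mp f ≫ x)) = _
    rw [GaPts.gaFn_comp]
    exact congrArg (fun k => k (Red.gaFn x)) (Scheme.ΓSpecIso_naturality (CommRingCat.ofHom f.toRingHom))
  have fn_mul : ∀ {C : Type u} [CommRing C] [Algebra R C] (x y : sp C ⟶ Red.Ga S), fn (x * y) = fn x + fn y := by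
    intro C _ _ x y
    show (Scheme.ΓSpecIso _).hom _ = _
    rw [GaPts.gaFn_mul]; exact map_add _ _ _
  have fn_ext : ∀ {C : Type u} [CommRing C] [Algebra R C] {x y : sp C ⟶ Red.Ga S}, fn x = fn y → x = y :=
    fun h => gaFn_ext ((ConcreteCategory.bijective_of_isIso (Scheme.ΓSpecIso (CommRingCat.of _)).hom).1 h)
  let iL : B →ₐ[R] B ⊗[R] B := Algebra.TensorProduct.includeLeft
  let iR : B →ₐ[R] B ⊗[R] B := Algebra.TensorProduct.includeRight
  have hπ : ∀ {C : Type u} [CommRing C] [Algebra R C] (f f' : B →ₐ[R] C),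
      (pt f ≫ b) ≫ A.π = (pt f' ≫ b) ≫ A.π := fun f f' => by
    rw [Category.assoc, Category.assoc, hb]; exact pt_q f f'
  obtain ⟨g, hg⟩ := exists_diff A (hπ iR iL)
  have hd : ∀ {C : Type u} [CommRing C] [Algebra R C] (f : B ⊗[R] B →ₐ[R] C),
      tr A (mp f ≫ g) (pt (f.comp iL) ≫ b) = pt (f.comp iR) ≫ b := fun f => by
    rw [← mp_pt f iR, ← mp_pt f iL, Category.assoc, Category.assoc, ← comp_tr, hg]
  let d₀ : B ⊗[R] B →ₐ[R] B ⊗[R] (B ⊗[R] B) := Algebra.TensorProduct.includeRight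
  let d₁ : B ⊗[R] B →ₐ[R] B ⊗[R] (B ⊗[R] B) := Algebra.TensorProduct.map (AlgHom.id R B) iR
  let d₂ : B ⊗[R] B →ₐ[R] B ⊗[R] (B ⊗[R] B) := Algebra.TensorProduct.map (AlgHom.id R B) iL
  have hcoc : mp d₀ ≫ g * (mp d₂ ≫ g) = mp d₁ ≫ g := by
    have e02 : d₂.comp iR = d₀.comp iL := by ext x; simp [d₀, d₂, iL, iR]
    have e01 : d₁.comp iR = d₀.comp iR := by ext x; simp [d₀, d₁, iR]
    have e12 : d₁.comp iL = d₂.comp iL := by ext x; simp [d₁, d₂, iL, iR, Algebra.TensorProduct.one_def]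
    refine diff_unique A (b := pt (d₂.comp iL) ≫ b) ?_
    rw [← tr_tr, hd, e02, hd]
    have := hd d₁
    rw [e12, e01] at this
    exact this.symm
  obtain ⟨e, he⟩ := exists_coboundary (fn g) (by
    have := congrArg fn hcoc
    rw [fn_mul, fn_mp, fn_mp, fn_mp] at this
    show d₀ (fn g) - d₁ (fn g) + d₂ (fn g) = 0
    rw [← this]; abel)
  let x : Z' ⟶ Red.Ga S := GaPts.ptOfFn (-e)
  have hx : ∀ {C : Type u} [CommRing C] [Algebra R C] (f : B →ₐ[R] C), fn (pt f ≫ x) = f (-e) := by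
    intro C _ _ f
    show (Scheme.ΓSpecIso _).hom (Red.gaFn (pt f ≫ x)) = _
    rw [GaPts.gaFn_comp, GaPts.gaFn_ptOfFn]
    have h1 : Z'.left.isoSpec.inv.appTop ≫ (Spec.map (CommRingCat.ofHom f.toRingHom)).appTop ≫
        (Scheme.ΓSpecIso (CommRingCat.of C)).hom = CommRingCat.ofHom f.toRingHom := by
      have h2 : Z'.left.isoSpec.inv.appTop = (Scheme.ΓSpecIso Γ(Z'.left, ⊤)).inv := by
        rw [← cancel_mono (Scheme.ΓSpecIso Γ(Z'.left, ⊤)).hom, Iso.inv_hom_id, ← Scheme.toSpecΓ_appTop,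
          ← Scheme.isoSpec_hom, ← Scheme.Hom.comp_appTop, Iso.hom_inv_id]
        rfl
      rw [Scheme.ΓSpecIso_naturality, h2]
      exact Iso.inv_hom_id_assoc (Scheme.ΓSpecIso Γ(Z'.left, ⊤)) _
    exact congrArg (fun k => k (-e)) h1
  have key : pt iR ≫ tr A x b = pt iL ≫ tr A x b := by
    rw [comp_tr, comp_tr, ← hg, tr_tr]
    congr 1
    refine fn_ext ?_
    rw [fn_mul, hx, hx, ← he]
    show (1 : B) ⊗ₜ[R] (-e) + (1 ⊗ₜ[R] e - e ⊗ₜ[R] 1) = (-e) ⊗ₜ[R] 1
    rw [TensorProduct.tmul_neg, TensorProduct.neg_tmul]; abel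
  -- descend
  have hcomp : ∀ {W : Scheme.{u}} (g₁ g₂ : W ⟶ Z'.left), g₁ ≫ q.left = g₂ ≫ q.left →
      g₁ ≫ (tr A x b).left = g₂ ≫ (tr A x b).left := by
    intro W g₁ g₂ hgg
    have sq := (IsPullback.of_hasPullback (Spec.map (CommRingCat.ofHom (algebraMap R B)))
      (Spec.map (CommRingCat.ofHom (algebraMap R B))))
    let e' := pullbackSpecIso R B B
    have hw : (g₁ ≫ Z'.left.isoSpec.hom) ≫ Spec.map (CommRingCat.ofHom (algebraMap R B)) =
        (g₂ ≫ Z'.left.isoSpec.hom) ≫ Spec.map (CommRingCat.ofHom (algebraMap R B)) := by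
      rw [hql, ← Category.assoc, ← Category.assoc, ← Category.assoc g₂, ← Category.assoc (g₂ ≫ _)] at hgg
      exact (cancel_mono A.base.left.isoSpec.inv).1 hgg
    let l := pullback.lift _ _ hw ≫ e'.hom
    have h₁ : l ≫ (pt iL).left = g₁ := by
      show l ≫ Spec.map (CommRingCat.ofHom Algebra.TensorProduct.includeLeftRingHom) ≫ _ = g₁
      rw [← pullbackSpecIso_inv_fst]
      simp [l, e']
    have h₂ : l ≫ (pt iR).left = g₂ := by
      show l ≫ Spec.map (CommRingCat.ofHom ((Algebra.TensorProduct.includeRight : B →ₐ[R] B ⊗[R] B) : B →+* B ⊗[R] B)) ≫ _ = g₂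
      rw [← pullbackSpecIso_inv_snd]
      simp [l, e']
    rw [← h₁, ← h₂]
    exact (Category.assoc _ _ _).trans ((congrArg (fun k => l ≫ k.left) key.symm).trans (Category.assoc _ _ _).symm)
  haveI : QuasiCompact q.left := inferInstance
  let σ := EffectiveEpi.desc q.left (tr A x b).left hcomp
  have hσ : q.left ≫ σ = (tr A x b).left := EffectiveEpi.fac q.left _ _
  have hσπ : σ ≫ A.π.left = 𝟙 _ := by
    rw [← cancel_epi q.left, reassoc_of% hσ, ← Over.comp_left, tr_π, hb, Category.comp_id]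
  exact ⟨Over.homMk σ (by rw [← Over.w A.π, reassoc_of% hσπ]), Over.OverMorphism.ext hσπ⟩

end Groth.Agent.BGa10
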