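import Groth.Agent.Theta10.Main
import Groth.Agent.AlgSpDec.Glue
import Groth.Agent.AlgStLib.Substack
import Groth.Agent.AlgStkX.StackExtend
import Groth.Agent.BGa10.Torsor

/-!
# The cover of the punctured two-branched stack by its two branches and the torsor with cocycle `1/π`
-/

set_option autoImplicit false
set_option linter.style.haveILetI false
set_option backward.isDefEq.respectTransparency false
set_option backward.isDefEq.respectTransparency.types false

universe u

open CategoryTheory CategoryTheory.Functor MonoidalCategory CartesianMonoidalCategory MonObj AlgebraicGeometry Opposite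
open scoped TensorProduct

namespace Groth.Agent.BGa10

open Groth.Agent.QuotLib Groth.Agent.AlgStkX Groth.Agent.GrpSchLib Groth.Agent.Theta10 Groth.Agent.FibBase

local notation "K₀" => Scheme.fppfPrecoverage

variable {S : Scheme.{u}} {R : Type u} [CommRing R] (π : R) (h : Spec (CommRingCat.of R) ⟶ S)

local notation "σA" => ThetaS.stAction R π

instance isAffineHom_ga : IsAffineHom (Red.Ga S).hom :=
  MorphismProperty.pullback_snd (P := @IsAffineHom) _ _
    (inferInstanceAs (IsAffineHom (Spec.map _)))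

instance isAffineHom_thetaGm : IsAffineHom (ThetaS.Gm R).hom := isAffineHom_gm

/-- The coordinate of a branch. -/
noncomputable def sd (σ : Bool) : ThetaS.STRing R π := if σ then ThetaS.sFn R π else ThetaS.tFn R π

/-- A branch. -/
noncomputable abbrev sideU (σ : Bool) : (ThetaS.STSch R π).left.Opens :=
  (ThetaS.STSch R π).left.basicOpen (ThetaS.stFn (sd π σ))

/-- The objects landing in a branch. -/
def OnSide (σ : Bool) (A : AlgSt.QuotObj K₀ (ThetaS.Gm R) σA) : Prop := A.φ.left ⁻¹ᵁ sideU π σ = ⊤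

theorem sideU_invariant (σ : Bool) : (ThetaS.stAction R π).act.left ⁻¹ᵁ sideU π σ =
    (snd (ThetaS.Gm R) (ThetaS.STSch R π)).left ⁻¹ᵁ sideU π σ := by
  have hu : uPair R (ThetaS.STRing R π) ≫ (ThetaS.stAction R π).act = CoactBr.pt (stUniv R π) := by
    let a : ThetaS.STRing R π ⊗[R] ThetaS.Lau R := ThetaS.sFn R π ⊗ₜ[R] 1
    let b : ThetaS.STRing R π ⊗[R] ThetaS.Lau R := ThetaS.tFn R π ⊗ₜ[R] 1
    have h : (Algebra.TensorProduct.includeLeft :
        ThetaS.STRing R π →ₐ[R] ThetaS.STRing R π ⊗[R] ThetaS.Lau R) = ThetaS.stPt a b (by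
      rw [Algebra.TensorProduct.tmul_mul_tmul, ThetaS.sFn_mul_tFn, _root_.one_mul,
        Algebra.TensorProduct.algebraMap_apply]) :=
      by
      refine @ThetaS.stRing_algHom_ext R _ π (ThetaS.STRing R π ⊗[R] ThetaS.Lau R) _ _ _ _ ?_ ?_
      · rw [ThetaS.stPt_sFn]; rfl
      · rw [ThetaS.stPt_tFn]; rfl
    rw [uPair, h]
    refine (ThetaS.stAction_pt _ a b _).trans (congrArg CoactBr.pt
      (@ThetaS.stRing_algHom_ext R _ π (ThetaS.STRing R π ⊗[R] ThetaS.Lau R) _ _ _ _ ?_ ?_))
    · simp [stUniv, a]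
    · simp [stUniv, b]
  have key : Associated (stUniv R π (sd π σ)) (sd π σ ⊗ₜ[R] 1) := by
    cases σ
    · rw [sd, if_neg (by simp), stUniv, ThetaS.stPt_tFn]; exact associated_tmul_unit R _ _
    · rw [sd, if_pos rfl, stUniv, ThetaS.stPt_sFn]; exact associated_tmul_unit R _ _
  have := preimage_act_eq R (ThetaS.stAction R π) (stUniv R π) hu (sd π σ) (sd π σ) key key
  rwa [sup_idem] at this

theorem missesNode_of_onSide {σ : Bool} {A : AlgSt.QuotObj K₀ (ThetaS.Gm R) σA} (hA : OnSide π σ A) :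
    ThetaS.MissesNode A := by
  rw [missesNode_iff, eq_top_iff, ← hA]
  refine A.φ.left.preimage_mono ?_
  cases σ
  · exact le_sup_right
  · exact le_sup_left

/-- `π` is invertible over the objects landing in both branches. -/
theorem isUnit_of_onSide {σ σ' : Bool} (hne : σ ≠ σ') {A : AlgSt.QuotObj K₀ (ThetaS.Gm R) σA}
    (h₁ : OnSide π σ A) (h₂ : OnSide π σ' A) :
    IsUnit (A.base.hom.appTop ((Scheme.ΓSpecIso (CommRingCat.of R)).inv π)) := by
  set r := (Scheme.ΓSpecIso (CommRingCat.of R)).inv π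
  have hπ : A.π.left ⁻¹ᵁ A.base.left.basicOpen (A.base.hom.appTop r) = ⊤ := by
    rw [Scheme.preimage_basicOpen_top, ← GmPts.appTop_comp_apply, Over.w A.π]
    have hw : A.P.hom = A.φ.left ≫ Spec.map (CommRingCat.ofHom (algebraMap R (ThetaS.STRing R π))) := (Over.w A.φ).symm
    rw [hw, GmPts.appTop_comp_apply]
    have e : (Spec.map (CommRingCat.ofHom (algebraMap R (ThetaS.STRing R π)))).appTop r =
        ThetaS.stFn (sd π σ) * ThetaS.stFn (sd π σ') := by
      have := congrArg (fun k => k π) (Scheme.ΓSpecIso_inv_naturality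
        (CommRingCat.ofHom (algebraMap R (ThetaS.STRing R π))))
      refine this.symm.trans ?_
      refine Eq.trans ?_ (map_mul (Scheme.ΓSpecIso (CommRingCat.of (ThetaS.STRing R π))).inv.hom _ _)
      refine congrArg (fun q => (Scheme.ΓSpecIso (CommRingCat.of (ThetaS.STRing R π))).inv q)
        (?_ : algebraMap R (ThetaS.STRing R π) π = sd π σ * sd π σ')
      rw [← ThetaS.sFn_mul_tFn]
      cases σ <;> cases σ' <;> first | exact absurd rfl hne | rfl | exact mul_comm _ _
    refine (congrArg (fun q => A.P.left.basicOpen (A.φ.left.appTop q)) e).trans ?_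
    show A.P.left.basicOpen (A.φ.left.appTop (ThetaS.stFn (sd π σ) * ThetaS.stFn (sd π σ'))) = ⊤
    rw [map_mul, Scheme.basicOpen_mul, ← Scheme.preimage_basicOpen_top, ← Scheme.preimage_basicOpen_top, h₁, h₂,
      inf_idem]
  haveI : Surjective A.π.left := by
    refine ⟨fun x => ?_⟩
    obtain ⟨Rv, hR, hsec⟩ := A.loc
    obtain ⟨Y, g, ⟨hg⟩, hx⟩ := hR.1 x
    obtain ⟨w, rfl⟩ := hx
    obtain ⟨s, hs⟩ := hsec _ hg
    exact ⟨s w, (Scheme.Hom.comp_apply s A.π.left w).symm.trans (congrArg (fun k => k w) hs)⟩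
  have htop : A.base.left.basicOpen (A.base.hom.appTop r) = ⊤ := by
    refine eq_top_iff.2 fun x _ => ?_
    obtain ⟨y, rfl⟩ := A.π.left.surjective x
    exact (show y ∈ A.π.left ⁻¹ᵁ A.base.left.basicOpen (A.base.hom.appTop r) by rw [hπ]; trivial)
  exact A.base.left.toRingedSpace.isUnit_of_isUnit_germ ⊤ _ fun x hx =>
    (A.base.left.mem_basicOpen _ x hx).1 (htop.symm ▸ trivial)

/-- The source of the extension: objects with a branch they land in. -/
abbrev Sided : Type (u + 1) := (A : AlgSt.QuotObj K₀ (ThetaS.Gm R) σA) × {σ : Bool // OnSide π σ A}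

/-- Forgetting the branch. -/
noncomputable def toPunc (a : Sided π) : (ThetaS.stPunc K₀ R π h).obj := ⟨a.1, missesNode_of_onSide π a.2.2⟩

/-- The category of objects with a branch they land in. -/
noncomputable def sideSt : AlgSt.Cat S :=
  .ofFunctor (inducedFunctor (toPunc π h) ⋙ (ThetaS.stPunc K₀ R π h).p)

/-- Its inclusion. -/
noncomputable def sideIncl : sideSt π h ⥤ᵇ ThetaS.stPunc K₀ R π h where
  toFunctor := inducedFunctor (toPunc π h)
  w := rfl

instance : (sideIncl π h).toFunctor.Full := InducedCategory.full _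
instance : (sideIncl π h).toFunctor.Faithful := InducedCategory.faithful _

theorem isFibGrpd_stPunc : FibCat.IsFibGrpd (ThetaS.stPunc K₀ R π h).p :=
  AlgStLib.isFibGrpd_fullSub (isFibGrpd_quotOver h) fun _ _ φ hA =>
    Q_of_hom (fun A => missesNode_iff R π A) φ hA

theorem isFibGrpd_sideSt : FibCat.IsFibGrpd (sideSt π h).p where
  exists_lift := fun {a} {V} f => by
    obtain ⟨c, φ, hφ⟩ := (isFibGrpd_stPunc π h).exists_lift (x := toPunc π h a) f
    exact ⟨⟨c.obj, a.2.1, Q_of_hom (Q := OnSide π a.2.1) (U := sideU π a.2.1) (fun _ => Iff.rfl) φ.hom a.2.2⟩,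
      InducedCategory.homMk φ, ((sideIncl π h).isHomLift_iff f _).1 hφ⟩
  isStronglyCartesian := fun {b a} φ =>
    { toIsHomLift := IsHomLift.map _ φ
      universal_property' := fun {a'} g φ' hφ' => by
        have := (isFibGrpd_stPunc π h).isStronglyCartesian φ.hom
        have hl : (ThetaS.stPunc K₀ R π h).p.IsHomLift (g ≫ (ThetaS.stPunc K₀ R π h).p.map φ.hom) φ'.hom :=
          ((sideIncl π h).isHomLift_iff _ φ').2 hφ'
        refine ⟨InducedCategory.homMk
          (IsStronglyCartesian.map (ThetaS.stPunc K₀ R π h).p ((ThetaS.stPunc K₀ R π h).p.map φ.hom) φ.hom (g := g) rfl φ'.hom), ⟨?_, ?_⟩, fun ψ hψ => ?_⟩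
        · refine ((sideIncl π h).isHomLift_iff g _).1 ?_
          exact inferInstanceAs ((ThetaS.stPunc K₀ R π h).p.IsHomLift g
            (IsStronglyCartesian.map (ThetaS.stPunc K₀ R π h).p ((ThetaS.stPunc K₀ R π h).p.map φ.hom) φ.hom (g := g) rfl φ'.hom))
        · exact InducedCategory.hom_ext (IsStronglyCartesian.fac (ThetaS.stPunc K₀ R π h).p ((ThetaS.stPunc K₀ R π h).p.map φ.hom) φ.hom (g := g) rfl φ'.hom)
        · have : (ThetaS.stPunc K₀ R π h).p.IsHomLift g ψ.hom := ((sideIncl π h).isHomLift_iff g ψ).2 hψ.1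
          exact InducedCategory.hom_ext (IsStronglyCartesian.map_uniq (ThetaS.stPunc K₀ R π h).p ((ThetaS.stPunc K₀ R π h).p.map φ.hom) φ.hom (g := g) rfl φ'.hom ψ.hom
            (congrArg InducedCategory.Hom.hom hψ.2)) }

theorem locSurjObj_sideIncl : Gerb.LocSurjObj (QuotSh.J K₀ S) (sideIncl π h) := by
  intro A
  refine ⟨StackExtend.liftSieve (isFibGrpd_sideSt π h) (sideIncl π h) A, ?_,
    StackExtend.covers_liftSieve (isFibGrpd_sideSt π h) (sideIncl π h) A⟩
  obtain ⟨W, hW, hWl⟩ := cover_triv (aX := σA) h A.obj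
  refine GrothendieckTopology.transitive _ hW _ fun V g hg => ?_
  obtain ⟨c, φ, χ, hφ⟩ := hWl g hg
  haveI := hφ
  have hV : (quotOver h σA).p.obj c = V := IsHomLift.domain_eq (quotOver h σA).p g φ
  obtain ⟨i, -⟩ := exists_iso_triv χ
  have hc : ThetaS.MissesNode c := Q_of_hom (fun B => missesNode_iff R π B) φ A.property
  set x := χ.base
  have hx : x.left ⁻¹ᵁ stU R π = ⊤ :=
    preimage_of_Q (fun B => missesNode_iff R π B) (Q_of_hom (fun B => missesNode_iff R π B) i.inv hc)
  let 𝒰 : c.base.left.OpenCover := Scheme.openCoverOfIsOpenCover c.base.left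
    (fun σ : ULift.{u} Bool => x.left ⁻¹ᵁ sideU π σ.down) (by
      rw [TopologicalSpace.IsOpenCover, eq_top_iff, ← hx]
      intro y hy
      rcases (hy : y ∈ (x.left ⁻¹ᵁ stU R π)) with hy | hy
      · exact TopologicalSpace.Opens.mem_iSup.2 ⟨⟨true⟩, hy⟩
      · exact TopologicalSpace.Opens.mem_iSup.2 ⟨⟨false⟩, hy⟩)
  subst hV
  refine AlgSpDec.mem_J_of_openCover (T := (quotOver h σA).p.obj c) 𝒰 _ fun σ => ?_
  let w : Over.mk (𝒰.f σ ≫ c.base.hom) ⟶ c.base := Over.homMk (𝒰.f σ) rfl
  have hside : OnSide π σ.down (triv K₀ (ThetaS.Gm R) σA (w ≫ x)) := by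
    refine Q_triv (sideU_invariant π σ.down) (Q := OnSide π σ.down) (fun _ => Iff.rfl) _ ?_
    rw [Over.comp_left, Scheme.Hom.comp_preimage]
    exact Scheme.Opens.ι_preimage_self _
  let p : Sided π := ⟨_, σ.down, hside⟩
  let ψ : triv K₀ (ThetaS.Gm R) σA (w ≫ x) ⟶ uObj σA :=
    mor (w ≫ x) (𝟙 (ThetaS.STSch R π)) 1 (w ≫ x) (mor_one_cond _)
  let t : triv K₀ (ThetaS.Gm R) σA (w ≫ x) ⟶ c := homLift χ ψ w (mor_base _ _ _ _ _).symm
  let m : toPunc π h p ⟶ A := ObjectProperty.homMk (t ≫ φ)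
  refine (⟨p, m, IsHomLift.of_fac' _ _ _ rfl rfl ?_⟩ :
    (StackExtend.liftSieve (isFibGrpd_sideSt π h) (sideIncl π h) A).arrows _)
  apply Over.OverMorphism.ext
  have e : (quotOver h σA).p.map φ = g := by
    simpa using IsHomLift.fac' (quotOver h σA).p g φ
  rw [← e]
  simp [m, t, w]
  rfl

/-- The number of a branch. -/
def nS (σ : Bool) : ℤ := if σ then 0 else 1

/-- The inverse of `π`, zero if it is not invertible. -/
noncomputable def invPi (A : AlgSt.QuotObj K₀ (ThetaS.Gm R) σA) : Γ(A.base.left, ⊤) :=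
  Ring.inverse (A.base.hom.appTop ((Scheme.ΓSpecIso (CommRingCat.of R)).inv π))

/-- The cocycle. -/
noncomputable def cocy (a b : Sided π) : Γ(a.1.base.left, ⊤) := (nS b.2.1 - nS a.2.1) • invPi π a.1

theorem cocy_comp {a b c : Sided π} (m : a.1 ⟶ b.1) (m' : b.1 ⟶ c.1) :
    cocy π a b + m.base.left.appTop (cocy π b c) = cocy π a c := by
  have key : (nS c.2.1 - nS b.2.1) • m.base.left.appTop (invPi π b.1) =
      (nS c.2.1 - nS b.2.1) • invPi π a.1 := by
    by_cases hbc : b.2.1 = c.2.1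
    · simp [hbc]
    have hu : IsUnit (b.1.base.hom.appTop ((Scheme.ΓSpecIso (CommRingCat.of R)).inv π)) :=
      isUnit_of_onSide π hbc b.2.2 (Q_of_hom (Q := OnSide π c.2.1) (U := sideU π c.2.1) (fun _ => Iff.rfl) m' c.2.2)
    congr 1
    obtain ⟨v, hv⟩ := hu
    rw [invPi, invPi, ← Over.w m.base, GmPts.appTop_comp_apply, ← hv, Ring.inverse_unit]
    exact (Ring.inverse_unit (Units.map m.base.left.appTop.hom.toMonoidHom v)).symm
  rw [cocy, cocy, cocy, _root_.map_zsmul, key, ← add_zsmul]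
  congr 1
  ring

/-- The torsor on the objects with a branch. -/
noncomputable def preFun : sideSt π h ⥤ᵇ AlgSt.BG K₀ (Red.Ga S) where
  toFunctor :=
    { obj := fun a => triv K₀ (Red.Ga S) (AlgSt.trivAction (Red.Ga S)) (toUnit ((sideSt π h).p.obj a))
      map := fun {a b} m => mor _ _
        (GaPts.ptOfFn (T := (sideSt π h).p.obj a) (cocy π a b)) ((sideSt π h).p.map m) (toUnit_unique _ _)
      map_id := fun a => by
        refine mor_ext ?_ ?_
        · rw [mor_base]; exact (sideSt π h).p.map_id a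
        · rw [gOf_mor, gOf_id]
          refine gaFn_ext ?_
          rw [GaPts.gaFn_ptOfFn, GaPts.gaFn_one, cocy, sub_self, zero_smul]
      map_comp := fun {a b c} m m' => by
        refine mor_ext ?_ ?_
        · rw [mor_base]
          show _ = bOf _ ≫ bOf _
          rw [mor_base, mor_base]
          exact (sideSt π h).p.map_comp m m'
        · rw [gOf_mor, gOf_comp, gOf_mor, gOf_mor, mor_base]
          refine gaFn_ext ?_
          rw [GaPts.gaFn_mul, GaPts.gaFn_comp, GaPts.gaFn_ptOfFn, GaPts.gaFn_ptOfFn, GaPts.gaFn_ptOfFn]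
          exact ((cocy_comp π m.hom.hom m'.hom.hom).symm.trans (add_comm _ _)).trans (add_comm _ _) }
  w := CategoryTheory.Functor.ext (fun _ => rfl) fun a b m => by
    refine (mor_base _ _ _ _ (toUnit_unique _ _)).trans ?_
    simp

/-- The torsor on the punctured stack. -/
noncomputable def puncFun : ThetaS.stPunc K₀ R π h ⥤ᵇ AlgSt.BG K₀ (Red.Ga S) :=
  StackExtend.extend (i := sideIncl π h) (isFibGrpd_stPunc π h) (isFibGrpd_sideSt π h) (locSurjObj_sideIncl π h)
    (AlgStkX.isStack_quotSt (AlgSt.trivAction (Red.Ga S))) (preFun π h)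

/-- It extends the torsor on the objects with a branch. -/
noncomputable def puncFunIso : preFun π h ≅ BasedFunctor.comp (sideIncl π h) (puncFun π h) :=
  StackExtend.extendIso (i := sideIncl π h) (isFibGrpd_stPunc π h) (isFibGrpd_sideSt π h) (locSurjObj_sideIncl π h)
    (AlgStkX.isStack_quotSt (AlgSt.trivAction (Red.Ga S))) (preFun π h)

end Groth.Agent.BGa10
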